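import Cfsg.Agent.Lib.BG.PiHall
import Cfsg.Prelude.Def_HallClasses
import Cfsg.Agent.Lib.PSolvable.PiElements
import Cfsg.Agent.Lib.TwoClassSizes.Basic
import Cfsg.Agent.Lib.Transfer.Sylow

/-!
Groups with a dominant `π`-subgroup in which elements of `π'`-order normalizing a `π`-subgroup
centralize it: the dominant subgroup controls fusion of its elements.
-/

set_option autoImplicit false
set_option linter.style.haveILetI false

namespace CfsgLib.PiHomog

open CfsgLib.PiElements (PiNum CoPiNum coprime_of_pi pi_mul)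

universe u

variable {G : Type u} [Group G] {π : Set ℕ}

/-- The conjugate of a subgroup. -/
def cj (g : G) (V : Subgroup G) : Subgroup G := V.map (MulAut.conj g).toMonoidHom

theorem mem_cj {g x : G} {V : Subgroup G} : x ∈ cj g V ↔ g⁻¹ * x * g ∈ V := by
  rw [cj, Subgroup.mem_map]
  constructor
  · rintro ⟨y, hy, rfl⟩
    simpa [mul_assoc] using hy
  · intro h
    exact ⟨g⁻¹ * x * g, h, by simp [mul_assoc]⟩

theorem conj_mem_cj {g v : G} {V : Subgroup G} (hv : v ∈ V) : g * v * g⁻¹ ∈ cj g V :=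
  ⟨v, hv, rfl⟩

theorem cj_cj (a b : G) (V : Subgroup G) : cj a (cj b V) = cj (a * b) V := by
  ext x
  simp only [mem_cj, mul_inv_rev, mul_assoc]

theorem cj_one (V : Subgroup G) : cj 1 V = V := by
  ext x
  simp [mem_cj]

theorem cj_mono (g : G) {V W : Subgroup G} (h : V ≤ W) : cj g V ≤ cj g W :=
  fun _ hx => mem_cj.mpr (h (mem_cj.mp hx))

theorem card_cj (g : G) (V : Subgroup G) : Nat.card (cj g V) = Nat.card V :=
  Subgroup.card_map_of_injective (MulAut.conj g).injective

theorem isPGroup_cj {p : ℕ} {V : Subgroup G} (hV : IsPGroup p V) (g : G) : IsPGroup p (cj g V) :=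
  hV.map _

theorem cj_eq_self {g : G} {V : Subgroup G} (h : g ∈ Subgroup.normalizer (V : Set G)) :
    cj g V = V := by
  ext x
  rw [mem_cj]
  have := Subgroup.mem_normalizer_iff.mp h (g⁻¹ * x * g)
  simpa [mul_assoc] using this

theorem mem_normalizer_of_cj_eq {g : G} {V : Subgroup G} (h : cj g V = V) :
    g ∈ Subgroup.normalizer (V : Set G) := by
  refine Subgroup.mem_normalizer_iff.mpr fun x => ?_
  conv_rhs => rw [← h, mem_cj]
  simp [mul_assoc]

/-- Elements of `π'`-order normalizing a `π`-subgroup centralize it. -/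
def Homog (π : Set ℕ) (G : Type u) [Group G] : Prop :=
  ∀ Y : Subgroup G, PiNum π (Nat.card Y) → ∀ n ∈ Subgroup.normalizer (Y : Set G),
    CoPiNum π (orderOf n) → n ∈ Subgroup.centralizer (Y : Set G)

/-- A `π`-subgroup containing a conjugate of each `π`-subgroup. -/
structure Dominant (π : Set ℕ) (H : Subgroup G) : Prop where
  pi : PiNum π (Nat.card H)
  conj : ∀ Y : Subgroup G, PiNum π (Nat.card Y) → ∃ g : G, cj g Y ≤ H

variable [Finite G]

theorem piNum_of_isPGroup {p : ℕ} [Fact p.Prime] (hpπ : p ∈ π) {V : Subgroup G}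
    (hV : IsPGroup p V) : PiNum π (Nat.card V) := by
  intro q hq hd
  obtain ⟨k, hk⟩ := IsPGroup.iff_card.mp hV
  rw [hk] at hd
  rwa [(Nat.prime_dvd_prime_iff_eq hq Fact.out).mp (hq.dvd_of_dvd_pow hd)]

theorem piNum_sup {A B : Subgroup G} (hA : PiNum π (Nat.card A)) (hB : PiNum π (Nat.card B))
    (h : A ≤ Subgroup.normalizer (B : Set G)) : PiNum π (Nat.card (A ⊔ B : Subgroup G)) := by
  have h1 : (⊥ : Subgroup G).relIndex B * B.relIndex (A ⊔ B) = (⊥ : Subgroup G).relIndex (A ⊔ B) :=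
    Subgroup.relIndex_mul_relIndex _ _ _ bot_le le_sup_right
  rw [Subgroup.relIndex_bot_left, Subgroup.relIndex_bot_left,
    PiElements.relIndex_sup_of_normalizing h] at h1
  rw [← h1]
  exact pi_mul hB (hA.dvd (Subgroup.relIndex_dvd_card _ _))

theorem piNum_zpowers {x : G} (hx : PiNum π (orderOf x)) :
    PiNum π (Nat.card (Subgroup.zpowers x)) := by
  rwa [Nat.card_zpowers]

/-- An element is a product of commuting powers with `π`- and `π'`-order. -/
theorem exists_split (π : Set ℕ) (n : G) : ∃ x z : G, x ∈ Subgroup.zpowers n ∧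
    z ∈ Subgroup.zpowers n ∧ n = x * z ∧ Commute x z ∧
    PiNum π (orderOf x) ∧ CoPiNum π (orderOf z) := by
  obtain ⟨a, b, hab, hco, ha, hb⟩ := BG.exists_pi_split π (orderOf_pos n).ne'
  obtain ⟨u, v, huv⟩ : ∃ u v : ℤ, (a : ℤ) * u + (b : ℤ) * v = 1 := by
    refine ⟨Nat.gcdA a b, Nat.gcdB a b, ?_⟩
    rw [← Nat.gcd_eq_gcd_ab, hco.gcd_eq_one]; rfl
  have h0 : ∀ k : ℤ, n ^ ((orderOf n : ℤ) * k) = 1 := fun k => by
    rw [zpow_mul, zpow_natCast, pow_orderOf_eq_one, one_zpow]
  refine ⟨n ^ ((b : ℤ) * v), n ^ ((a : ℤ) * u), Subgroup.zpow_mem_zpowers _ _,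
    Subgroup.zpow_mem_zpowers _ _, ?_, (Commute.refl n).zpow_zpow _ _, ?_, ?_⟩
  · rw [← zpow_add, add_comm, huv, zpow_one]
  · refine PiNum.dvd (b := a) ha (orderOf_dvd_of_pow_eq_one ?_)
    rw [← zpow_natCast, ← zpow_mul]
    convert h0 v using 2
    rw [hab]; push_cast; ring
  · refine CoPiNum.dvd (b := b) hb (orderOf_dvd_of_pow_eq_one ?_)
    rw [← zpow_natCast, ← zpow_mul]
    convert h0 u using 2
    rw [hab]; push_cast; ring

/-- Each element normalizing a `π`-subgroup acts on it as a `π`-element does. -/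
theorem exists_pi_rep (hhom : Homog π G) {V : Subgroup G} (hV : PiNum π (Nat.card V)) {n : G}
    (hn : n ∈ Subgroup.normalizer (V : Set G)) :
    ∃ x ∈ Subgroup.normalizer (V : Set G), PiNum π (orderOf x) ∧
      x⁻¹ * n ∈ Subgroup.centralizer (V : Set G) := by
  obtain ⟨x, z, hx, hz, hxz, -, ho, hco⟩ := exists_split π n
  have hle : Subgroup.zpowers n ≤ Subgroup.normalizer (V : Set G) := Subgroup.zpowers_le.mpr hn
  refine ⟨x, hle hx, ho, ?_⟩
  rw [hxz, inv_mul_cancel_left]
  exact hhom V hV z (hle hz) hco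

theorem pow_factorization_dvd {H : Subgroup G} (hH : Dominant π H) {p : ℕ} [Fact p.Prime]
    (hpπ : p ∈ π) : p ^ (Nat.card G).factorization p ∣ Nat.card H := by
  obtain ⟨P⟩ := (inferInstance : Nonempty (Sylow p G))
  obtain ⟨g, hg⟩ := hH.conj P (piNum_of_isPGroup hpπ P.2)
  have := Subgroup.card_dvd_of_le hg
  rwa [card_cj, P.card_eq_multiplicity] at this

theorem coPiNum_index {H : Subgroup G} (hH : Dominant π H) : CoPiNum π H.index := by
  intro p hp hd hpπ
  haveI := Fact.mk hp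
  have h1 : p ^ ((Nat.card G).factorization p + 1) ∣ Nat.card G := by
    rw [pow_succ, ← H.card_mul_index]
    exact Nat.mul_dvd_mul (by rw [H.card_mul_index]; exact pow_factorization_dvd hH hpπ) hd
  exact Nat.pow_succ_factorization_not_dvd Nat.card_pos.ne' hp h1

theorem factorization_eq {H : Subgroup G} (hH : Dominant π H) {p : ℕ} [Fact p.Prime]
    (hpπ : p ∈ π) : (Nat.card H).factorization p = (Nat.card G).factorization p := by
  refine le_antisymm ?_ ?_
  · exact (Nat.factorization_le_iff_dvd Nat.card_pos.ne' Nat.card_pos.ne').mpr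
      H.card_subgroup_dvd_card p
  · exact (Nat.Prime.pow_dvd_iff_le_factorization Fact.out Nat.card_pos.ne').mp
      (pow_factorization_dvd hH hpπ)

/-- The dominant subgroup controls fusion of its `p`-subgroups. -/
theorem p_fusion {H : Subgroup G} (hH : Dominant π H) (hhom : Homog π G) {p : ℕ} [Fact p.Prime]
    (hpπ : p ∈ π) (V : Subgroup G) (hV : IsPGroup p V) (hVH : V ≤ H) (g : G) (hg : cj g V ≤ H) :
    ∃ h ∈ H, ∀ v ∈ V, h * v * h⁻¹ = g * v * g⁻¹ := by
  have IH : ∀ W : Subgroup G, Nat.card V < Nat.card W → IsPGroup p W → W ≤ H → ∀ g : G,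
      cj g W ≤ H → ∃ h ∈ H, ∀ w ∈ W, h * w * h⁻¹ = g * w * g⁻¹ := fun W hlt hW hWH g hg =>
    p_fusion hH hhom hpπ W hW hWH g hg
  have hA : ∀ g : G, cj g V ≤ H → ∃ h ∈ H, cj (h * g) V = V := by
    by_cases hfull : Nat.card V = p ^ (Nat.card G).factorization p
    · intro g hg
      have hc : ∀ W : Subgroup G, W ≤ H → Nat.card W = Nat.card V →
          Nat.card (W.subgroupOf H) = p ^ (Nat.card H).factorization p := by
        intro W hW hcW
        rw [Nat.card_congr (Subgroup.subgroupOfEquivOfLe hW).toEquiv, hcW, hfull,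
          factorization_eq hH hpπ]
      let P := Sylow.ofCard (V.subgroupOf H) (hc V hVH rfl)
      let Q := Sylow.ofCard ((cj g V).subgroupOf H) (hc _ hg (card_cj g V))
      obtain ⟨h, hh⟩ := MulAction.exists_smul_eq H Q P
      refine ⟨h, h.2, ?_⟩
      have h1 : ((h • Q : Sylow p H) : Subgroup H) = (P : Subgroup H) := by rw [hh]
      rw [← cj_cj]
      refine Subgroup.eq_of_le_of_card_ge ?_ (by rw [card_cj, card_cj])
      intro x hx
      have hx' : (h : G)⁻¹ * x * (h : G) ∈ cj g V := mem_cj.mp hx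
      have hxH : x ∈ H := by
        have := H.mul_mem (H.mul_mem h.2 (hg hx')) (H.inv_mem h.2)
        simpa [mul_assoc] using this
      have h2 : (⟨x, hxH⟩ : H) ∈ (P : Subgroup H) := by
        rw [← h1, Sylow.coe_subgroup_smul, Subgroup.mem_pointwise_smul_iff_inv_smul_mem]
        show _ ∈ (cj g V).subgroupOf H
        rw [Subgroup.mem_subgroupOf]
        simpa [mul_assoc] using hx'
      exact h2
    · set N := Subgroup.normalizer (V : Set G) with hN
      obtain ⟨R⟩ := (inferInstance : Nonempty (Sylow p N))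
      obtain ⟨n, hn⟩ := hH.conj ((R : Subgroup N).map N.subtype)
        (piNum_of_isPGroup hpπ (R.2.map _))
      have key : ∀ g : G, cj g V ≤ H → ∃ h ∈ H, cj (h * g) V = cj n V := by
        intro g hg
        obtain ⟨S, hS⟩ := ((isPGroup_cj hV g).comap_subtype (K := H)).exists_le_sylow
        set P := (S : Subgroup H).map H.subtype with hP
        have hPp : IsPGroup p P := S.2.map _
        have hPH : P ≤ H := Subgroup.map_subtype_le _
        have hUP : cj g V < P := by
          refine lt_of_le_of_ne (fun x hx => ⟨⟨x, hg hx⟩, hS hx, rfl⟩) fun heq => hfull ?_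
          rw [← card_cj g V, heq, hP, Subgroup.card_subtype, S.card_eq_multiplicity,
            factorization_eq hH hpπ]
        set W := P ⊓ Subgroup.normalizer ((cj g V : Subgroup G) : Set G) with hW
        have hUW : cj g V < W := Transfer.lt_inf_normalizer hPp hUP
        have hWp : IsPGroup p W := hPp.to_le inf_le_left
        have hlt : Nat.card V < Nat.card W := by
          rw [← card_cj g V]
          refine lt_of_le_of_ne (Subgroup.card_le_of_le hUW.le) fun heq => hUW.ne ?_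
          exact Subgroup.eq_of_le_of_card_ge hUW.le heq.ge
        have hWN : cj g⁻¹ W ≤ N := by
          intro x hx
          have h1 := cj_eq_self (mem_cj.mp hx).2
          apply mem_normalizer_of_cj_eq
          have h2 := congrArg (cj g⁻¹) h1
          rw [cj_cj, cj_cj, cj_cj, inv_mul_cancel, cj_one] at h2
          simpa [mul_assoc] using h2
        obtain ⟨T, hT⟩ := ((isPGroup_cj hWp g⁻¹).comap_subtype (K := N)).exists_le_sylow
        obtain ⟨m, hm⟩ := MulAction.exists_smul_eq N T R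
        have hmap : cj (n * (m : G) * g⁻¹) W ≤ H := by
          refine le_trans ?_ hn
          rw [mul_assoc, ← cj_cj]
          refine cj_mono n ?_
          rw [← cj_cj]
          intro x hx
          have hx' := mem_cj.mp hx
          have hxN : x ∈ N := by
            have := N.mul_mem (N.mul_mem m.2 (hWN hx')) (N.inv_mem m.2)
            simpa [mul_assoc] using this
          refine ⟨⟨x, hxN⟩, ?_, rfl⟩
          rw [← hm, SetLike.mem_coe, Sylow.coe_subgroup_smul,
            Subgroup.mem_pointwise_smul_iff_inv_smul_mem]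
          apply hT
          rw [Subgroup.mem_comap]
          simpa [mul_assoc] using hx'
        obtain ⟨h, hh, hact⟩ := IH W hlt hWp (inf_le_left.trans hPH) _ hmap
        refine ⟨h, hh, ?_⟩
        rw [← cj_cj]
        have hm' : cj n V = cj (n * (m : G) * g⁻¹) (cj g V) := by
          rw [cj_cj, inv_mul_cancel_right, ← cj_cj, cj_eq_self m.2]
        rw [hm']
        refine Subgroup.eq_of_le_of_card_ge ?_ (by simp only [card_cj, le_refl])
        rintro _ ⟨u, hu, rfl⟩
        show h * u * h⁻¹ ∈ _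
        rw [hact u (hUW.le hu)]
        exact conj_mem_cj hu
      obtain ⟨h₀, hh₀, e₀⟩ := key 1 (by rw [cj_one]; exact hVH)
      rw [mul_one] at e₀
      intro g hg
      obtain ⟨h, hh, e⟩ := key g hg
      refine ⟨h₀⁻¹ * h, H.mul_mem (H.inv_mem hh₀) hh, ?_⟩
      rw [mul_assoc, ← cj_cj, e, ← e₀, cj_cj, inv_mul_cancel, cj_one]
  have hB : ∀ n ∈ Subgroup.normalizer (V : Set G), ∃ h ∈ H,
      h⁻¹ * n ∈ Subgroup.centralizer (V : Set G) := by
    set N := Subgroup.normalizer (V : Set G) with hN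
    set C := (Subgroup.centralizer (V : Set G)).subgroupOf N with hC
    haveI : C.Normal := by rw [hC, hN, ← Subgroup.normalizerMonoidHom_ker]; infer_instance
    have htop : H.subgroupOf N ⊔ C = ⊤ := by
      refine TwoClassSizes.eq_top_of_conj_cover fun n => ?_
      obtain ⟨x, hxN, hxπ, hxC⟩ := exists_pi_rep hhom (piNum_of_isPGroup hpπ hV) n.2
      obtain ⟨g, hg⟩ := hH.conj _ (piNum_sup (piNum_zpowers hxπ) (piNum_of_isPGroup hpπ hV)
        (Subgroup.zpowers_le.mpr hxN))
      obtain ⟨h, hh, e⟩ := hA g ((cj_mono g le_sup_right).trans hg)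
      have hc : h * g ∈ N := mem_normalizer_of_cj_eq e
      refine ⟨⟨h * g, hc⟩⁻¹, ?_⟩
      have hy : (⟨h * g, hc⟩ : N) * ⟨x, hxN⟩ * ⟨h * g, hc⟩⁻¹ ∈ H.subgroupOf N := by
        rw [Subgroup.mem_subgroupOf]
        have h1 : g * x * g⁻¹ ∈ H :=
          hg (conj_mem_cj (Subgroup.mem_sup_left (Subgroup.mem_zpowers x)))
        have h2 := H.mul_mem (H.mul_mem hh h1) (H.inv_mem hh)
        simpa [mul_assoc] using h2
      have hz : (⟨x, hxN⟩ : N)⁻¹ * n ∈ C := by
        rw [hC, Subgroup.mem_subgroupOf]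
        exact hxC
      have := Subgroup.mul_mem_sup hy ((inferInstance : C.Normal).conj_mem _ hz ⟨h * g, hc⟩)
      convert this using 1
      group
    intro n hn
    have hn' : (⟨n, hn⟩ : N) ∈ H.subgroupOf N ⊔ C := htop ▸ Subgroup.mem_top _
    obtain ⟨a, ha, c, hc, hac⟩ := Subgroup.mem_sup_of_normal_right.mp hn'
    refine ⟨a, ha, ?_⟩
    have : (a : G) * c = n := congrArg Subtype.val hac
    rw [← this, inv_mul_cancel_left]
    exact hc
  obtain ⟨h₁, hh₁, e⟩ := hA g hg
  obtain ⟨h₂, hh₂, hc⟩ := hB (h₁ * g) (mem_normalizer_of_cj_eq e)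
  refine ⟨h₁⁻¹ * h₂, H.mul_mem (H.inv_mem hh₁) hh₂, fun v hv => ?_⟩
  have h := Subgroup.mem_centralizer_iff.mp hc v hv
  calc h₁⁻¹ * h₂ * v * (h₁⁻¹ * h₂)⁻¹
      = h₁⁻¹ * h₂ * (v * (h₂⁻¹ * (h₁ * g))) * (h₂⁻¹ * (h₁ * g))⁻¹ * (h₁⁻¹ * h₂)⁻¹ := by group
    _ = h₁⁻¹ * h₂ * (h₂⁻¹ * (h₁ * g) * v) * (h₂⁻¹ * (h₁ * g))⁻¹ * (h₁⁻¹ * h₂)⁻¹ := by rw [h]
    _ = g * v * g⁻¹ := by group
termination_by Nat.card G - Nat.card V
decreasing_by
  have := Nat.le_of_dvd Nat.card_pos W.card_subgroup_dvd_card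
  omega

omit [Finite G] in
theorem homog_subgroup (hhom : Homog π G) (C : Subgroup G) : Homog π C := by
  intro Y hY n hn ho
  have h1 : PiNum π (Nat.card (Y.map C.subtype)) := by
    rwa [Subgroup.card_subtype]
  have h2 : (n : G) ∈ Subgroup.normalizer ((Y.map C.subtype : Subgroup G) : Set G) := by
    refine Subgroup.mem_normalizer_iff.mpr fun x => ?_
    constructor
    · rintro ⟨y, hy, rfl⟩
      exact ⟨n * y * n⁻¹, (Subgroup.mem_normalizer_iff.mp hn y).mp hy, by simp⟩
    · rintro ⟨y, hy, e⟩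
      refine ⟨n⁻¹ * y * n, (Subgroup.mem_normalizer_iff.mp hn _).mpr (by simpa [mul_assoc] using hy), ?_⟩
      have e' : (y : G) = n * x * (n : G)⁻¹ := e
      simp [e', mul_assoc]
  have h3 := hhom _ h1 _ h2 (by rwa [Subgroup.orderOf_coe])
  rw [Subgroup.mem_centralizer_iff] at h3 ⊢
  exact fun y hy => Subtype.ext (h3 y ⟨y, hy, rfl⟩)

/-- The dominant subgroup meets the centralizer of its `p`-elements in a dominant subgroup. -/
theorem dominant_centralizer {H : Subgroup G} (hH : Dominant π H) (hhom : Homog π G) {p : ℕ}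
    [Fact p.Prime] (hpπ : p ∈ π) {w : G} (hw : w ∈ H) (hwp : IsPGroup p (Subgroup.zpowers w)) :
    Dominant π (H.subgroupOf (Subgroup.centralizer {w})) := by
  set C := Subgroup.centralizer ({w} : Set G) with hC
  constructor
  · rw [← Subgroup.card_subtype C]
    refine hH.pi.dvd (Subgroup.card_dvd_of_le ?_)
    rintro _ ⟨y, hy, rfl⟩
    exact hy
  · intro Y hY
    have hnorm : Subgroup.zpowers w ≤ Subgroup.normalizer ((Y.map C.subtype : Subgroup G) : Set G) := by
      refine Subgroup.zpowers_le.mpr (Subgroup.centralizer_le_normalizer _ ?_)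
      rw [Subgroup.mem_centralizer_iff]
      rintro _ ⟨y, -, rfl⟩
      exact (Subgroup.mem_centralizer_iff.mp y.2 w rfl).symm
    obtain ⟨n, hn⟩ := hH.conj _ (piNum_sup (piNum_of_isPGroup hpπ hwp)
      (by rwa [Subgroup.card_subtype]) hnorm)
    obtain ⟨h, hh, hact⟩ := p_fusion hH hhom hpπ _ hwp (Subgroup.zpowers_le.mpr hw) n
      ((cj_mono n le_sup_left).trans hn)
    have hwn : h * w * h⁻¹ = n * w * n⁻¹ := hact w (Subgroup.mem_zpowers w)
    have hnC : h⁻¹ * n ∈ C := by
      rw [hC, Subgroup.mem_centralizer_iff]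
      intro z hz
      rw [Set.mem_singleton_iff.mp hz]
      calc w * (h⁻¹ * n) = h⁻¹ * (h * w * h⁻¹) * n := by group
        _ = h⁻¹ * (n * w * n⁻¹) * n := by rw [hwn]
        _ = h⁻¹ * n * w := by group
    refine ⟨⟨h⁻¹ * n, hnC⟩, ?_⟩
    rintro _ ⟨y, hy, rfl⟩
    rw [Subgroup.mem_subgroupOf]
    have h1 : n * (y : G) * n⁻¹ ∈ H :=
      hn (conj_mem_cj (Subgroup.mem_sup_right ⟨y, hy, rfl⟩))
    have h2 := H.mul_mem (H.mul_mem (H.inv_mem hh) h1) hh
    simpa [mul_assoc] using h2

theorem fusion_aux (π : Set ℕ) : ∀ k : ℕ, ∀ {G : Type u} [Group G] [Finite G] {H : Subgroup G},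
    Dominant π H → Homog π G → ∀ x ∈ H, orderOf x ≤ k → ∀ g : G, g * x * g⁻¹ ∈ H →
      ∃ h ∈ H, h * x * h⁻¹ = g * x * g⁻¹ := by
  intro k
  induction k using Nat.strong_induction_on with
  | _ k ih =>
    intro G _ _ H hH hhom x hx hk g hy
    by_cases h1 : x = 1
    · exact ⟨1, H.one_mem, by simp [h1]⟩
    have hne : orderOf x ≠ 1 := by rwa [Ne, orderOf_eq_one_iff]
    obtain ⟨p, hp, hpd⟩ := Nat.exists_prime_and_dvd hne
    haveI := Fact.mk hp
    have hpπ : p ∈ π := hH.pi p hp (hpd.trans (H.orderOf_dvd_natCard hx))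
    obtain ⟨a, b, ha, hb, hab, hcomm, hoa, hob⟩ := exists_split ({p} : Set ℕ) x
    have hle : Subgroup.zpowers x ≤ H := Subgroup.zpowers_le.mpr hx
    have hle' : ∀ c ∈ Subgroup.zpowers x, g * c * g⁻¹ ∈ H := by
      rintro _ ⟨i, rfl⟩
      show g * x ^ i * g⁻¹ ∈ H
      rw [← conj_zpow]
      exact H.zpow_mem hy i
    have hap : IsPGroup p (Subgroup.zpowers a) := by
      refine IsPGroup.of_card (n := (orderOf a).factorization p) ?_
      rw [Nat.card_zpowers]
      conv_lhs => rw [← Nat.prod_factorization_pow_eq_self (orderOf_pos a).ne']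
      rw [Finsupp.prod]
      refine Finset.prod_eq_single p (fun q hq hqp => ?_) (fun h => ?_)
      · rw [Nat.support_factorization, Nat.mem_primeFactors] at hq
        exact absurd (hoa q hq.1 hq.2.1) hqp
      · rw [Finsupp.notMem_support_iff.mp h, pow_zero]
    obtain ⟨h, hh, hact⟩ := p_fusion hH hhom hpπ _ hap
      (Subgroup.zpowers_le.mpr (hle ha)) g (by
        rw [cj, MonoidHom.map_zpowers, Subgroup.zpowers_le]
        exact hle' a ha)
    set w := g * a * g⁻¹ with hw
    have hwH : w ∈ H := hle' a ha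
    have hwp : IsPGroup p (Subgroup.zpowers w) := by
      have := hap.map (MulAut.conj g).toMonoidHom
      rwa [MonoidHom.map_zpowers] at this
    have hact' : h * a * h⁻¹ = w := hact a (Subgroup.mem_zpowers a)
    have hC : ∀ t : G, t * a * t⁻¹ = w → t * b * t⁻¹ ∈ Subgroup.centralizer {w} := by
      intro t ht
      rw [Subgroup.mem_centralizer_iff]
      intro z hz
      rw [Set.mem_singleton_iff.mp hz]
      calc w * (t * b * t⁻¹) = (t * a * t⁻¹) * (t * b * t⁻¹) := by rw [ht]
        _ = t * (a * b) * t⁻¹ := by group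
        _ = t * (b * a) * t⁻¹ := by rw [hcomm.eq]
        _ = t * b * t⁻¹ * (t * a * t⁻¹) := by group
        _ = _ := by rw [ht]
    set C := Subgroup.centralizer ({w} : Set G)
    have hgh : g * h⁻¹ ∈ C := by
      rw [Subgroup.mem_centralizer_iff]
      intro z hz
      rw [Set.mem_singleton_iff.mp hz]
      calc w * (g * h⁻¹) = g * a * g⁻¹ * (g * h⁻¹) := rfl
        _ = g * h⁻¹ * (h * a * h⁻¹) := by group
        _ = _ := by rw [hact']
    have hlt : orderOf b < k := by
      refine lt_of_lt_of_le ?_ hk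
      conv_rhs => rw [hab, hcomm.orderOf_mul_eq_mul_orderOf_of_coprime (coprime_of_pi hoa hob)]
      refine lt_mul_of_one_lt_left (orderOf_pos b) ?_
      refine lt_of_le_of_ne (orderOf_pos a) fun he => ?_
      have hb1 : a = 1 := orderOf_eq_one_iff.mp he.symm
      rw [hab, hb1, one_mul] at hpd
      exact hob p hp hpd rfl
    obtain ⟨h₂, hh₂, e⟩ := ih (orderOf b) hlt (dominant_centralizer hH hhom hpπ hwH hwp)
      (homog_subgroup hhom C) ⟨h * b * h⁻¹, hC h hact'⟩
      (by
        rw [Subgroup.mem_subgroupOf]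
        exact H.mul_mem (H.mul_mem hh (hle hb)) (H.inv_mem hh))
      (by
        rw [← Subgroup.orderOf_coe]
        exact (MulEquiv.orderOf_eq (MulAut.conj h) b).le)
      ⟨g * h⁻¹, hgh⟩
      (by
        rw [Subgroup.mem_subgroupOf]
        simpa [mul_assoc] using hle' b hb)
    have e' : (h₂ : G) * (h * b * h⁻¹) * (h₂ : G)⁻¹ = g * b * g⁻¹ := by
      have := congrArg Subtype.val e
      simpa [mul_assoc] using this
    have e'' : (h₂ : G) * (h * a * h⁻¹) * (h₂ : G)⁻¹ = g * a * g⁻¹ := by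
      rw [hact', ← Subgroup.mem_centralizer_iff.mp h₂.2 w rfl, mul_inv_cancel_right, hw]
    refine ⟨h₂ * h, H.mul_mem hh₂ hh, ?_⟩
    calc (h₂ : G) * h * x * ((h₂ : G) * h)⁻¹
        = ((h₂ : G) * (h * a * h⁻¹) * (h₂ : G)⁻¹) * ((h₂ : G) * (h * b * h⁻¹) * (h₂ : G)⁻¹) := by
          rw [hab]; group
      _ = (g * a * g⁻¹) * (g * b * g⁻¹) := by rw [e', e'']
      _ = g * x * g⁻¹ := by rw [hab]; group

/-- Elements of the dominant subgroup conjugate in the group are conjugate in the subgroup. -/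
theorem fusion {H : Subgroup G} (hH : Dominant π H) (hhom : Homog π G) {x y : G} (hx : x ∈ H)
    (hy : y ∈ H) (hxy : IsConj x y) : ∃ h ∈ H, h * x * h⁻¹ = y := by
  obtain ⟨g, rfl⟩ := isConj_iff.mp hxy
  exact fusion_aux π _ hH hhom x hx le_rfl g hy

omit [Finite G] in
theorem homog_of_relIndex [Finite G]
    (hhom : ∀ H : Subgroup G, H ≠ ⊥ → (∀ p : ℕ, p.Prime → p ∣ Nat.card H → p ∈ π) →
      ∀ p : ℕ, p.Prime → p ∣ (Subgroup.centralizer (H : Set G)).relIndex
        (Subgroup.normalizer (H : Set G)) → p ∈ π) : Homog π G := by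
  intro Y hY n hn ho
  by_cases hb : Y = ⊥
  · subst hb
    rw [Subgroup.mem_centralizer_iff]
    intro y hy
    rw [Subgroup.mem_bot.mp hy, one_mul, mul_one]
  set N := Subgroup.normalizer (Y : Set G) with hN
  set C := (Subgroup.centralizer (Y : Set G)).subgroupOf N with hC
  haveI : C.Normal := by rw [hC, hN, ← Subgroup.normalizerMonoidHom_ker]; infer_instance
  have h1 := Subgroup.pow_index_mem C ⟨n, hn⟩
  have h2 : (C.index).Coprime (orderOf (⟨n, hn⟩ : N)) := by
    rw [Subgroup.orderOf_mk]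
    exact coprime_of_pi (hhom Y hb hY) ho
  obtain ⟨m, hm⟩ := exists_pow_eq_self_of_coprime h2
  have h3 := C.pow_mem h1 m
  rw [hm] at h3
  exact h3

theorem exists_dominant (hD : Cfsg.IsDPiGroup π G) :
    ∃ H : Subgroup G, Dominant π H := by
  have hbot : Cfsg.IsPiSubgroup π (⊥ : Subgroup G) := fun p hp h => by
    rw [Subgroup.card_bot] at h
    exact absurd (Nat.dvd_one.mp h) hp.ne_one
  obtain ⟨H, -, hH⟩ := (Set.toFinite {K : Subgroup G | Cfsg.IsPiSubgroup π K}).exists_le_maximal hbot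
  refine ⟨H, hH.1, fun Y hY => ?_⟩
  obtain ⟨M, hYM, hM⟩ := (Set.toFinite {K : Subgroup G | Cfsg.IsPiSubgroup π K}).exists_le_maximal hY
  obtain ⟨g, hg⟩ := hD M H hM hH
  exact ⟨g, (cj_mono g hYM).trans hg.ge⟩

end CfsgLib.PiHomog
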